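import Cfsg.Agent.Wreathed.Model

/-!
Structure of the wreathed 2-group in coordinates, and transfer to abstract wreathed groups.
-/

set_option autoImplicit false

namespace Cfsg.Lib.Wreathed

open Wr
open scoped commutatorElement

variable {n : ℕ}

theorem exponent_eq {S : Type*} [Group S] [Finite S] (hS : Cfsg.IsWreathed S) (n : ℕ)
    (hn : Nat.card S = 2 ^ (2 * n + 1)) : 2 ≤ n ∧ Nonempty (Wr n ≃* S) := by
  obtain ⟨m, hm, hc, he⟩ := exists_equiv hS
  obtain rfl : m = n := by
    have := Nat.pow_right_injective le_rfl (hn.symm.trans hc)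
    omega
  exact ⟨hm, he⟩

/-- The element of order 2 of `ZMod (2 ^ n)`. -/
def half (n : ℕ) : ZMod (2 ^ n) := ((2 ^ (n - 1) : ℕ) : ZMod (2 ^ n))

theorem half_ne_zero (hn : 1 ≤ n) : half n ≠ 0 := by
  rw [half, Ne, ZMod.natCast_eq_zero_iff]
  intro h
  have := (Nat.pow_dvd_pow_iff_le_right one_lt_two).mp h
  omega

theorem half_add_half (hn : 1 ≤ n) : half n + half n = 0 := by
  rw [half, ← Nat.cast_add, ← two_mul, ← pow_succ', Nat.sub_add_cancel hn, ZMod.natCast_self]

theorem neg_half (hn : 1 ≤ n) : -half n = half n :=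
  neg_eq_of_add_eq_zero_left (half_add_half hn)

theorem eq_zero_or_half (hn : 1 ≤ n) {a : ZMod (2 ^ n)} (h : a + a = 0) : a = 0 ∨ a = half n := by
  obtain ⟨k, rfl⟩ := ZMod.intCast_surjective a
  rw [← Int.cast_add, ← two_mul, ZMod.intCast_zmod_eq_zero_iff_dvd] at h
  obtain ⟨j, hj⟩ : (((2 ^ (n - 1) : ℕ)) : ℤ) ∣ k := by
    refine (Int.mul_dvd_mul_iff_left two_ne_zero).mp ?_
    convert h using 1
    push_cast
    rw [← pow_succ', Nat.sub_add_cancel hn]
  rcases Int.even_or_odd j with ⟨l, hl⟩ | ⟨l, hl⟩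
  · left
    rw [ZMod.intCast_zmod_eq_zero_iff_dvd]
    refine ⟨l, ?_⟩
    rw [hj, hl]
    push_cast
    rw [show (2 : ℤ) ^ n = 2 ^ (n - 1) * 2 by rw [← pow_succ, Nat.sub_add_cancel hn]]
    ring
  · right
    have hN : ((2 ^ n : ℕ) : ZMod (2 ^ n)) = 0 := ZMod.natCast_self _
    rw [hj, hl, half]
    have e : (((2 ^ (n - 1) : ℕ) : ℤ) * (2 * l + 1)) = ((2 ^ n : ℕ) : ℤ) * l + (2 ^ (n - 1) : ℕ) := by
      push_cast
      rw [show (2 : ℤ) ^ n = 2 ^ (n - 1) * 2 by rw [← pow_succ, Nat.sub_add_cancel hn]]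
      ring
    rw [e, Int.cast_add, Int.cast_mul, Int.cast_natCast, hN, zero_mul, zero_add, Int.cast_natCast]

theorem one_ne_half (hn : 2 ≤ n) : (1 : ZMod (2 ^ n)) + 1 ≠ 0 := by
  intro h
  have h' : ((2 : ℕ) : ZMod (2 ^ n)) = 0 := by rw [← h]; norm_num
  rw [ZMod.natCast_eq_zero_iff] at h'
  have h4 : 2 ^ 2 ∣ 2 := (pow_dvd_pow 2 hn).trans h'
  norm_num at h4

theorem mul_self_iff (p : Wr n) :
    p * p = 1 ↔ (p.e = false ∧ p.a + p.a = 0 ∧ p.b + p.b = 0) ∨ (p.e = true ∧ p.a + p.b = 0) := by
  rcases p with ⟨a, b, _ | _⟩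
  · simp [Wr.ext_iff]
  · simp [Wr.ext_iff, add_comm b a]

theorem order_two_iff (p : Wr n) : orderOf p = 2 ↔ p * p = 1 ∧ p ≠ 1 := by
  rw [orderOf_eq_prime_iff, pow_two]

theorem mem_center_iff' (hn : 2 ≤ n) (p : Wr n) :
    p ∈ Subgroup.center (Wr n) ↔ p.e = false ∧ p.a = p.b := by
  rw [Subgroup.mem_center_iff]
  constructor
  · intro h
    have h1 := h ⟨1, 0, false⟩
    have h2 := h ⟨0, 0, true⟩
    rcases p with ⟨a, b, _ | _⟩
    · refine ⟨rfl, ?_⟩
      simp [Wr.ext_iff] at h2
      exact h2.1.symm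
    · exfalso
      simp [Wr.ext_iff] at h1
      exact one_ne_half hn (by rw [h1, add_zero])
  · rintro ⟨he, hab⟩ q
    rcases p with ⟨a, b, e⟩
    simp only at he hab
    subst he hab
    rcases q with ⟨c, d, _ | _⟩ <;> simp [Wr.ext_iff, add_comm]

/-- The conjugation formula. -/
theorem conj_formula (p q : Wr n) :
    p * q * p⁻¹ = ⟨p.a + (if p.e then q.b else q.a) - (if q.e then p.b else p.a),
      p.b + (if p.e then q.a else q.b) - (if q.e then p.a else p.b), q.e⟩ := by
  rcases p with ⟨a, b, _ | _⟩ <;> rcases q with ⟨c, d, _ | _⟩ <;>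
    simp [Wr.ext_iff, sub_eq_add_neg]

theorem conj_outer_involution {p : Wr n} (he : p.e = true) (h : p * p = 1) :
    ∃ q : Wr n, q * ⟨0, 0, true⟩ * q⁻¹ = p := by
  rcases (mul_self_iff p).mp h with ⟨hf, -⟩ | ⟨-, hab⟩
  · rw [he] at hf; exact absurd hf (by decide)
  · refine ⟨⟨p.a, 0, false⟩, ?_⟩
    rw [conj_formula]
    ext
    · simp
    · simpa using neg_eq_of_add_eq_zero_right hab
    · simpa using he.symm

/-- The abelian subgroup of index 2. -/
def base (n : ℕ) : Subgroup (Wr n) where
  carrier := {p | p.e = false}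
  one_mem' := rfl
  mul_mem' := fun {p q} hp hq => by
    simp only [Set.mem_setOf_eq] at hp hq ⊢
    simp [hp, hq]
  inv_mem' := fun {p} hp => by simpa using hp

/-- The base is `Z_{2^n} × Z_{2^n}`. -/
def baseEquiv (n : ℕ) : base n ≃* Multiplicative (ZMod (2 ^ n) × ZMod (2 ^ n)) where
  toFun p := Multiplicative.ofAdd ((p : Wr n).a, (p : Wr n).b)
  invFun t := ⟨⟨t.toAdd.1, t.toAdd.2, false⟩, rfl⟩
  left_inv := fun ⟨⟨a, b, e⟩, (he : e = false)⟩ => by subst he; rfl
  right_inv _ := rfl
  map_mul' := fun ⟨⟨a, b, e⟩, (he : e = false)⟩ q => by subst he; rfl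

theorem base_comm (p q : base n) : p * q = q * p :=
  (baseEquiv n).injective (by rw [map_mul, map_mul, mul_comm])

theorem base_card (n : ℕ) : Nat.card (base n) = 2 ^ (2 * n) := by
  rw [Nat.card_congr (baseEquiv n).toEquiv, Nat.card_congr Multiplicative.toAdd, Nat.card_prod,
    Nat.card_zmod]
  ring

theorem mul_outer_mem_base {p q : Wr n} (hp : p.e = true) (hq : q.e = true) : (p * q).e = false := by
  simp [hp, hq]

theorem center_of_commute_outer (hn : 2 ≤ n) {p u : Wr n} (hp : p.e = false) (hu : u.e = true)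
    (h : Commute p u) : p ∈ Subgroup.center (Wr n) := by
  rw [mem_center_iff' hn]
  refine ⟨hp, ?_⟩
  have := congrArg Wr.a h.eq
  simp [hp, hu] at this
  rw [add_comm] at this
  exact add_left_cancel this

theorem card_center (hn : 2 ≤ n) : Nat.card (Subgroup.center (Wr n)) = 2 ^ n := by
  rw [← Nat.card_zmod (2 ^ n)]
  exact Nat.card_congr
    { toFun := fun p => (p : Wr n).a
      invFun := fun a => ⟨⟨a, a, false⟩, (mem_center_iff' hn _).mpr ⟨rfl, rfl⟩⟩
      left_inv := fun p => Subtype.ext (by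
        obtain ⟨he, hab⟩ := (mem_center_iff' hn _).mp p.2
        ext <;> simp [he, hab])
      right_inv := fun a => rfl }

theorem isCyclic_center (hn : 2 ≤ n) : IsCyclic (Subgroup.center (Wr n)) := by
  let g : Subgroup.center (Wr n) := ⟨⟨1, 1, false⟩, (mem_center_iff' hn _).mpr ⟨rfl, rfl⟩⟩
  have hp : ∀ k : ℕ, ((g : Wr n) ^ k) = ⟨k, k, false⟩ := by
    intro k
    induction k with
    | zero => ext <;> simp
    | succ k ih => rw [pow_succ, ih]; ext <;> simp [g]
  refine isCyclic_of_surjective (zpowersHom _ g) fun p => ?_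
  obtain ⟨he, hab⟩ := (mem_center_iff' hn _).mp p.2
  obtain ⟨k, hk⟩ := ZMod.natCast_zmod_surjective (p : Wr n).a
  refine ⟨Multiplicative.ofAdd (k : ℤ), Subtype.ext ?_⟩
  simp only [zpowersHom_apply, toAdd_ofAdd, zpow_natCast, SubgroupClass.coe_pow, hp]
  ext <;> simp [he, hk, ← hab]

/-- The antidiagonal, the derived subgroup. -/
def antidiag (n : ℕ) : Subgroup (Wr n) where
  carrier := {p | p.e = false ∧ p.a + p.b = 0}
  one_mem' := ⟨rfl, by simp⟩
  mul_mem' := fun {p q} hp hq => ⟨by simp [hp.1, hq.1], by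
    simp only [mul_a, mul_b, hp.1, Bool.false_eq_true, if_false]
    rw [add_add_add_comm, hp.2, hq.2, add_zero]⟩
  inv_mem' := fun {p} hp => ⟨by simpa using hp.1, by
    simp only [inv_a, inv_b, hp.1, Bool.false_eq_true, if_false]
    rw [← neg_add, hp.2, neg_zero]⟩

theorem card_antidiag (n : ℕ) : Nat.card (antidiag n) = 2 ^ n := by
  rw [← Nat.card_zmod (2 ^ n)]
  exact Nat.card_congr
    { toFun := fun p => (p : Wr n).a
      invFun := fun a => ⟨⟨a, -a, false⟩, rfl, add_neg_cancel a⟩
      left_inv := fun ⟨p, he, hab⟩ => Subtype.ext (by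
        ext
        · rfl
        · exact neg_eq_of_add_eq_zero_right hab
        · exact he.symm)
      right_inv := fun a => rfl }

theorem commutator_eq (n : ℕ) : commutator (Wr n) = antidiag n := by
  refine le_antisymm ?_ ?_
  · rw [_root_.commutator_def, Subgroup.commutator_le]
    intro p _ q _
    rw [commutatorElement_def, conj_formula]
    rcases p with ⟨a, b, _ | _⟩ <;> rcases q with ⟨c, d, _ | _⟩ <;>
      refine ⟨by simp, ?_⟩ <;> simp <;> ring
  · intro p hp
    have h : ⁅(⟨0, p.b, false⟩ : Wr n), ⟨0, 0, true⟩⁆ = p := by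
      rw [commutatorElement_def, conj_formula]
      ext
      · simpa using neg_eq_of_add_eq_zero_left hp.2
      · simp
      · simp [hp.1]
    rw [← h, _root_.commutator_def]
    exact Subgroup.commutator_mem_commutator (Subgroup.mem_top _) (Subgroup.mem_top _)

theorem isCyclic_commutator (n : ℕ) : IsCyclic (commutator (Wr n)) := by
  rw [commutator_eq]
  let g : antidiag n := ⟨⟨1, -1, false⟩, rfl, add_neg_cancel 1⟩
  have hp : ∀ k : ℕ, ((g : Wr n) ^ k) = ⟨k, -k, false⟩ := by
    intro k
    induction k with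
    | zero => ext <;> simp
    | succ k ih => rw [pow_succ, ih]; ext <;> simp [g]; ring
  refine isCyclic_of_surjective (zpowersHom _ g) fun ⟨p, he, hab⟩ => ?_
  obtain ⟨k, hk⟩ := ZMod.natCast_zmod_surjective p.a
  refine ⟨Multiplicative.ofAdd (k : ℤ), Subtype.ext ?_⟩
  simp only [zpowersHom_apply, toAdd_ofAdd, zpow_natCast, SubgroupClass.coe_pow, hp]
  ext
  · simp [hk]
  · simp [hk, neg_eq_of_add_eq_zero_right hab]
  · simp [he]

/-- The quotient by the centre. -/
def toDihedral (n : ℕ) : Wr n →* DihedralGroup (2 ^ n) :=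
  MonoidHom.mk' (fun p => if p.e then DihedralGroup.sr (p.b - p.a) else DihedralGroup.r (p.a - p.b))
    fun p q => by
      rcases p with ⟨a, b, _ | _⟩ <;> rcases q with ⟨c, d, _ | _⟩ <;> simp <;> ring

theorem toDihedral_surjective (n : ℕ) : Function.Surjective (toDihedral n) := by
  rintro (i | i)
  · exact ⟨⟨i, 0, false⟩, by simp [toDihedral]⟩
  · exact ⟨⟨0, i, true⟩, by simp [toDihedral]⟩

theorem toDihedral_ker (hn : 2 ≤ n) : (toDihedral n).ker = Subgroup.center (Wr n) := by
  ext p
  rw [MonoidHom.mem_ker, mem_center_iff' hn]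
  rcases p with ⟨a, b, _ | _⟩ <;> simp [toDihedral, sub_eq_zero, ← DihedralGroup.r_zero]

theorem existsUnique_abelian (hn : 2 ≤ n) (U : Subgroup (Wr n)) (hU : IsMulCommutative U)
    (hc : Nat.card U = 2 ^ (2 * n)) : U = base n := by
  by_cases hle : U ≤ base n
  · exact Subgroup.eq_of_le_of_card_ge hle (by rw [hc, base_card])
  exfalso
  obtain ⟨u, hu, hue⟩ := SetLike.not_le_iff_exists.mp hle
  have hue' : u.e = true := by simpa [base] using hue
  haveI := hU
  have hle2 : U ⊓ base n ≤ Subgroup.center (Wr n) := fun p hp =>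
    center_of_commute_outer hn hp.2 hue'
      (congrArg Subtype.val (mul_comm' (⟨p, hp.1⟩ : U) ⟨u, hu⟩))
  have h1 : Nat.card U ≤ Nat.card (U ⊓ base n : Subgroup (Wr n)) * 2 := by
    rw [← Nat.card_eq_fintype_card.trans Fintype.card_bool, ← Nat.card_prod]
    refine Nat.card_le_card_of_injective (fun p =>
      if h : (p : Wr n).e = false then ((⟨(p : Wr n), p.2, h⟩ : (U ⊓ base n : Subgroup (Wr n))), false)
      else ((⟨(p : Wr n) * u, U.mul_mem p.2 hu, by
        exact mul_outer_mem_base (by simpa using h) hue'⟩ : (U ⊓ base n : Subgroup (Wr n))), true))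
      fun p q hpq => ?_
    refine Subtype.ext ?_
    simp only at hpq
    by_cases h₁ : (p : Wr n).e = false <;> by_cases h₂ : (q : Wr n).e = false
    · rw [dif_pos h₁, dif_pos h₂, Prod.mk.injEq] at hpq
      exact congrArg (fun w : (U ⊓ base n : Subgroup (Wr n)) => (w : Wr n)) hpq.1
    · rw [dif_pos h₁, dif_neg h₂, Prod.mk.injEq] at hpq
      exact absurd hpq.2 (by decide)
    · rw [dif_neg h₁, dif_pos h₂, Prod.mk.injEq] at hpq
      exact absurd hpq.2 (by decide)
    · rw [dif_neg h₁, dif_neg h₂, Prod.mk.injEq] at hpq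
      exact mul_right_cancel (congrArg (fun w : (U ⊓ base n : Subgroup (Wr n)) => (w : Wr n)) hpq.1)
  have h2 := Subgroup.card_le_of_le hle2
  rw [card_center hn] at h2
  rw [hc] at h1
  have : 2 ^ (2 * n) ≤ 2 ^ (n + 1) := by rw [pow_succ]; omega
  have := (Nat.pow_le_pow_iff_right one_lt_two).mp this
  omega

/-- The normal four-subgroup. -/
def normalFour (n : ℕ) : Subgroup (Wr n) where
  carrier := {p | p.e = false ∧ p.a + p.a = 0 ∧ p.b + p.b = 0}
  one_mem' := ⟨rfl, by simp, by simp⟩
  mul_mem' := fun {p q} hp hq => ⟨by simp [hp.1, hq.1],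
    by simp only [mul_a, hp.1, Bool.false_eq_true, if_false]
       rw [add_add_add_comm, hp.2.1, hq.2.1, add_zero],
    by simp only [mul_b, hp.1, Bool.false_eq_true, if_false]
       rw [add_add_add_comm, hp.2.2, hq.2.2, add_zero]⟩
  inv_mem' := fun {p} hp => ⟨by simpa using hp.1,
    by simp only [inv_a, hp.1, Bool.false_eq_true, if_false]
       rw [← neg_add, hp.2.1, neg_zero],
    by simp only [inv_b, hp.1, Bool.false_eq_true, if_false]
       rw [← neg_add, hp.2.2, neg_zero]⟩

theorem normalFour_card (hn : 1 ≤ n) : Nat.card (normalFour n) = 4 := by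
  have e : normalFour n ≃ Bool × Bool :=
    { toFun := fun p => (decide ((p : Wr n).a = half n), decide ((p : Wr n).b = half n))
      invFun := fun t => ⟨⟨if t.1 then half n else 0, if t.2 then half n else 0, false⟩, rfl,
        by cases t.1 <;> simp [half_add_half hn], by cases t.2 <;> simp [half_add_half hn]⟩
      left_inv := fun ⟨⟨a, b, e⟩, he, ha, hb⟩ => by
        simp only at he ha hb
        subst he
        refine Subtype.ext ?_
        rcases eq_zero_or_half hn ha with rfl | rfl <;>
          rcases eq_zero_or_half hn hb with rfl | rfl <;>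
          simp [half_ne_zero hn, (half_ne_zero hn).symm]
      right_inv := fun ⟨s, t⟩ => by
        cases s <;> cases t <;> simp [(half_ne_zero hn).symm] }
  rw [Nat.card_congr e, Nat.card_prod, Nat.card_eq_fintype_card, Fintype.card_bool]

theorem klein_sq {G : Type*} [Group G] (E : Subgroup G) [IsKleinFour E] {p : G} (hp : p ∈ E) :
    p * p = 1 := congrArg Subtype.val (IsKleinFour.mul_self (⟨p, hp⟩ : E))

/-- The generated closure of the involutions. -/
def omegaSub (hn : 1 ≤ n) : Subgroup (Wr n) where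
  carrier := {p | (p.a + p.b) + (p.a + p.b) = 0}
  one_mem' := by simp
  mul_mem' := fun {p q} hp hq => by
    simp only [Set.mem_setOf_eq] at hp hq ⊢
    have h : (p * q).a + (p * q).b = (p.a + p.b) + (q.a + q.b) := by
      rcases p with ⟨a, b, _ | _⟩ <;> simp <;> ring
    rw [h, add_add_add_comm, hp, hq, add_zero]
  inv_mem' := fun {p} hp => by
    simp only [Set.mem_setOf_eq] at hp ⊢
    have h : p⁻¹.a + p⁻¹.b = -(p.a + p.b) := by
      rcases p with ⟨a, b, _ | _⟩ <;> simp <;> ring
    rw [h, ← neg_add, hp, neg_zero]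

theorem closure_involutions (hn : 1 ≤ n) :
    Subgroup.closure {x : Wr n | orderOf x = 2} = omegaSub hn := by
  refine le_antisymm ((Subgroup.closure_le _).mpr fun p hp => ?_) fun p hp => ?_
  · rcases (mul_self_iff p).mp ((order_two_iff p).mp hp).1 with ⟨-, ha, hb⟩ | ⟨-, hab⟩
    · show p.a + p.b + (p.a + p.b) = 0
      rw [add_add_add_comm, ha, hb, add_zero]
    · show p.a + p.b + (p.a + p.b) = 0
      rw [hab, add_zero]
  · have hinv : ∀ q : Wr n, q * q = 1 → q ∈ Subgroup.closure {x : Wr n | orderOf x = 2} := by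
      intro q hq
      by_cases h1 : q = 1
      · rw [h1]; exact Subgroup.one_mem _
      · exact Subgroup.subset_closure ((order_two_iff q).mpr ⟨hq, h1⟩)
    have h0 : ∀ c : ZMod (2 ^ n), (⟨c, -c, false⟩ : Wr n) ∈ Subgroup.closure {x : Wr n | orderOf x = 2} := by
      intro c
      rw [show (⟨c, -c, false⟩ : Wr n) = ⟨c, -c, true⟩ * ⟨0, 0, true⟩ by ext <;> simp]
      exact Subgroup.mul_mem _ (hinv _ ((mul_self_iff _).mpr (Or.inr ⟨rfl, by simp⟩)))
        (hinv _ ((mul_self_iff _).mpr (Or.inr ⟨rfl, by simp⟩)))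
    have hp' : (p.a + p.b) + (p.a + p.b) = 0 := hp
    have e : p = (⟨p.a + p.b, 0, false⟩ : Wr n) * ⟨-p.b, p.b, false⟩ *
        (if p.e then ⟨0, 0, true⟩ else 1) := by
      rcases p with ⟨a, b, _ | _⟩ <;> ext <;> simp
    rw [e]
    refine Subgroup.mul_mem _ (Subgroup.mul_mem _
      (hinv _ ((mul_self_iff _).mpr (Or.inl ⟨rfl, hp', by simp⟩))) ?_) ?_
    · simpa using h0 (-p.b)
    · split
      · exact hinv _ ((mul_self_iff _).mpr (Or.inr ⟨rfl, by simp⟩))
      · exact Subgroup.one_mem _

theorem card_omegaSub (hn : 1 ≤ n) : Nat.card (omegaSub hn) = 2 ^ (n + 2) := by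
  have e : omegaSub hn ≃ ZMod (2 ^ n) × Bool × Bool :=
    { toFun := fun p => ((p : Wr n).a, decide ((p : Wr n).a + (p : Wr n).b = half n), (p : Wr n).e)
      invFun := fun t => ⟨⟨t.1, (if t.2.1 then half n else 0) - t.1, t.2.2⟩, by
        show t.1 + ((if t.2.1 then half n else 0) - t.1) +
          (t.1 + ((if t.2.1 then half n else 0) - t.1)) = 0
        rw [add_sub_cancel]
        cases t.2.1 <;> simp [half_add_half hn]⟩
      left_inv := fun ⟨⟨a, b, e⟩, (h : a + b + (a + b) = 0)⟩ => Subtype.ext (by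
        rcases eq_zero_or_half hn h with h' | h'
        · have : b = -a := (neg_eq_of_add_eq_zero_right h').symm
          subst this
          simp [(half_ne_zero hn).symm]
        · simp only [h', decide_true, if_true]
          ext <;> simp [← h'])
      right_inv := fun ⟨a, s, t⟩ => by cases s <;> simp [(half_ne_zero hn).symm] }
  rw [Nat.card_congr e, Nat.card_prod, Nat.card_prod, Nat.card_zmod, Nat.card_eq_fintype_card,
    Fintype.card_bool]
  ring

/-- The generalized quaternion subgroup. -/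
def quatSub (hn : 1 ≤ n) : Subgroup (Wr n) where
  carrier := {p | p.a + p.b = if p.e then half n else 0}
  one_mem' := by simp
  mul_mem' := fun {p q} hp hq => by
    simp only [Set.mem_setOf_eq] at hp hq ⊢
    have h : (p * q).a + (p * q).b = (p.a + p.b) + (q.a + q.b) := by
      rcases p with ⟨a, b, _ | _⟩ <;> simp <;> ring
    rw [h, hp, hq]
    cases hpe : p.e <;> cases hqe : q.e <;> simp [hpe, hqe, half_add_half hn]
  inv_mem' := fun {p} hp => by
    simp only [Set.mem_setOf_eq] at hp ⊢
    have h : p⁻¹.a + p⁻¹.b = -(p.a + p.b) := by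
      rcases p with ⟨a, b, _ | _⟩ <;> simp <;> ring
    rw [h, hp]
    cases hpe : p.e <;> simp [hpe, neg_half hn]

theorem quatSub_card (hn : 1 ≤ n) : Nat.card (quatSub hn) = 2 ^ (n + 1) := by
  have e : quatSub hn ≃ ZMod (2 ^ n) × Bool :=
    { toFun := fun p => ((p : Wr n).a, (p : Wr n).e)
      invFun := fun t => ⟨⟨t.1, (if t.2 then half n else 0) - t.1, t.2⟩, add_sub_cancel _ _⟩
      left_inv := fun ⟨⟨a, b, e⟩, (h : a + b = if e then half n else 0)⟩ => Subtype.ext (by
        ext
        · rfl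
        · simp [← h]
        · rfl)
      right_inv := fun t => rfl }
  rw [Nat.card_congr e, Nat.card_prod, Nat.card_zmod, Nat.card_eq_fintype_card, Fintype.card_bool]
  ring

theorem quatSub_normal (hn : 1 ≤ n) : (quatSub hn).Normal :=
  ⟨fun q (hq : q.a + q.b = if q.e then half n else 0) p => by
    show (p * q * p⁻¹).a + (p * q * p⁻¹).b = if (p * q * p⁻¹).e then half n else 0
    rw [conj_formula]
    rcases p with ⟨a, b, _ | _⟩ <;> rcases q with ⟨c, d, _ | _⟩ <;> simp at hq ⊢ <;> rw [← hq] <;>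
      ring⟩

theorem quatSub_equiv (hn : 2 ≤ n) :
    Nonempty (quatSub (show 1 ≤ n by omega) ≃* QuaternionGroup (2 ^ (n - 1))) := by
  have hN : 2 * 2 ^ (n - 1) = 2 ^ n := by rw [← pow_succ', Nat.sub_add_cancel (by omega)]
  let ι : ZMod (2 * 2 ^ (n - 1)) ≃+* ZMod (2 ^ n) := ZMod.ringEquivCongr hN
  have hι : ι ((2 ^ (n - 1) : ℕ) : ZMod (2 * 2 ^ (n - 1))) = half n := map_natCast ι _
  have hι' : ι 2 ^ (n - 1) = half n := by
    rw [← hι, ← map_pow]; norm_num
  let f : QuaternionGroup (2 ^ (n - 1)) → Wr n := fun g => match g with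
    | QuaternionGroup.a i => ⟨ι i, -ι i, false⟩
    | QuaternionGroup.xa i => ⟨half n - ι i, ι i, true⟩
  let φ : QuaternionGroup (2 ^ (n - 1)) →* Wr n := MonoidHom.mk' f fun p q => by
    rcases p with i | i <;> rcases q with j | j <;>
      ext <;>
      simp [f, map_add, map_sub, hι, hι', QuaternionGroup.a_mul_a, QuaternionGroup.a_mul_xa,
        QuaternionGroup.xa_mul_a, QuaternionGroup.xa_mul_xa] <;>
      first
        | ring1
        | linear_combination half_add_half (show 1 ≤ n by omega)
        | linear_combination -half_add_half (show 1 ≤ n by omega)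
  have hinj : Function.Injective φ := by
    rintro (i | i) (j | j) h <;> simp [φ, f, Wr.ext_iff] at h
    · rw [h]
    · rw [h]
  have hmem : ∀ g, φ g ∈ quatSub (show 1 ≤ n by omega) := by
    rintro (i | i)
    · show ι i + -ι i = _
      simp [φ, f]
    · show half n - ι i + ι i = _
      simp [φ, f]
  refine ⟨(MulEquiv.ofBijective (φ.codRestrict _ hmem)
    ((MonoidHom.injective_codRestrict φ _ hmem).mpr hinj |>.bijective_of_nat_card_le ?_)).symm⟩
  rw [quatSub_card, Nat.card_eq_fintype_card, QuaternionGroup.card, pow_succ', show (4 : ℕ) = 2 * 2 by rfl,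
    mul_assoc, hN]

theorem quat_unique (hn : 2 ≤ n) {Y : Subgroup (Wr n)} (hY : Nat.card Y = 2 ^ (n + 1))
    (e : Y ≃* QuaternionGroup (2 ^ (n - 1))) : Y = quatSub (show 1 ≤ n by omega) := by
  have h1 : 1 ≤ n := by omega
  haveI : NeZero (2 ^ (n - 1)) := ⟨(Nat.pow_pos two_pos).ne'⟩
  have hN : 2 * 2 ^ (n - 1) = 2 ^ n := by rw [← pow_succ', Nat.sub_add_cancel h1]
  have hm : (2 : ℕ) ∣ 2 ^ (n - 1) := dvd_pow_self 2 (by omega)
  have h11 : ∀ i : ZMod (2 * 2 ^ (n - 1)), ¬ (1 + i = i - 1) := by
    intro i h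
    have h2 : ((2 : ℕ) : ZMod (2 * 2 ^ (n - 1))) = 0 := by
      have : (1 : ZMod (2 * 2 ^ (n - 1))) + 1 = 0 := by linear_combination h
      rw [← this]; norm_num
    rw [ZMod.natCast_eq_zero_iff, hN] at h2
    have h4 : 2 ^ 2 ∣ 2 := (pow_dvd_pow 2 hn).trans h2
    norm_num at h4
  have hcenter : ∀ g : QuaternionGroup (2 ^ (n - 1)), (∀ h, g * h = h * g) → g * g = 1 := by
    intro g hg
    rcases g with i | i
    · have h := hg (QuaternionGroup.xa 0)
      rw [QuaternionGroup.a_mul_xa, QuaternionGroup.xa_mul_a, QuaternionGroup.xa.injEq] at h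
      rw [QuaternionGroup.a_mul_a, QuaternionGroup.one_def]
      congr 1
      linear_combination -h
    · have h := hg (QuaternionGroup.a 1)
      rw [QuaternionGroup.xa_mul_a, QuaternionGroup.a_mul_xa, QuaternionGroup.xa.injEq] at h
      exact absurd (by rw [add_comm]; exact h) (h11 i)
  have hsq : ∀ g : QuaternionGroup (2 ^ (n - 1)),
      g * g = 1 → g = 1 ∨ g = QuaternionGroup.a ((2 ^ (n - 1) : ℕ) : ZMod (2 * 2 ^ (n - 1))) := by
    intro g hg
    rcases g with i | i
    · rw [QuaternionGroup.a_mul_a, QuaternionGroup.one_def, QuaternionGroup.a.injEq] at hg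
      have hN' : 2 * 2 ^ (n - 1) = 2 ^ n := hN
      let ι : ZMod (2 * 2 ^ (n - 1)) ≃+* ZMod (2 ^ n) := ZMod.ringEquivCongr hN'
      rcases eq_zero_or_half h1 (a := ι i) (by rw [← map_add, hg, map_zero]) with h | h
      · left
        rw [QuaternionGroup.one_def, ι.injective (h.trans (map_zero ι).symm)]
      · right
        rw [ι.injective (h.trans (map_natCast ι (2 ^ (n - 1))).symm)]
    · exfalso
      rw [QuaternionGroup.xa_mul_xa, QuaternionGroup.one_def, QuaternionGroup.a.injEq] at hg
      have : ((2 ^ (n - 1) : ℕ) : ZMod (2 * 2 ^ (n - 1))) = 0 := by linear_combination hg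
      rw [ZMod.natCast_eq_zero_iff] at this
      have := Nat.le_of_dvd (Nat.pow_pos two_pos) this
      have := Nat.pow_pos (n := n - 1) two_pos
      omega
  have hYnc : ¬ Y ≤ base n := by
    intro hle
    have hh : ∀ p q : Y, p * q = q * p := fun p q => Subtype.ext
      (show (p : Wr n) * q = q * p from
        congrArg (fun w : base n => (w : Wr n)) (base_comm ⟨p, hle p.2⟩ ⟨q, hle q.2⟩))
    have := hh (e.symm (QuaternionGroup.a 1)) (e.symm (QuaternionGroup.xa 0))
    rw [← map_mul, ← map_mul, e.symm.injective.eq_iff, QuaternionGroup.a_mul_xa,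
      QuaternionGroup.xa_mul_a, QuaternionGroup.xa.injEq] at this
    exact h11 0 (by linear_combination -this)
  obtain ⟨u, hu, hue⟩ := SetLike.not_le_iff_exists.mp hYnc
  have hue' : u.e = true := by simpa [base] using hue
  have hsum : ∀ v ∈ Y, v.e = true → v.a + v.b = half n := by
    intro v hv hve
    have hv2 : v * v = ⟨v.a + v.b, v.a + v.b, false⟩ := by
      ext <;> simp [hve, add_comm]
    have hc : ∀ w : Y, (⟨v * v, Y.mul_mem hv hv⟩ : Y) * w = w * ⟨v * v, Y.mul_mem hv hv⟩ := fun w =>
      Subtype.ext (Subgroup.mem_center_iff.mp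
        (show v * v ∈ Subgroup.center (Wr n) by rw [hv2, mem_center_iff' hn]; exact ⟨rfl, rfl⟩)
        w.1).symm
    have h4 := hcenter (e ⟨v * v, Y.mul_mem hv hv⟩) fun g => by
      obtain ⟨w, rfl⟩ := e.surjective g
      rw [← map_mul, hc w, map_mul]
    rw [← map_mul, MulEquiv.map_eq_one_iff] at h4
    have h5 : v.a + v.b + (v.a + v.b) = 0 := by
      have := congrArg Wr.a (congrArg Subtype.val h4)
      simpa [hve, add_comm v.b v.a] using this
    rcases eq_zero_or_half h1 h5 with h | h
    · exfalso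
      -- a second involution
      have hvv : (⟨v, hv⟩ : Y) * ⟨v, hv⟩ = 1 := Subtype.ext (hv2.trans (by rw [h]; rfl))
      have hz : v ∈ Subgroup.center (Wr n) ∨ v = 1 := by
        rcases hsq (e ⟨v, hv⟩) (by rw [← map_mul, hvv, map_one]) with h6 | h6
        · exact Or.inr (congrArg Subtype.val ((MulEquiv.map_eq_one_iff e).mp h6))
        · exfalso
          have hcv : ∀ w : Y, (⟨v, hv⟩ : Y) * w = w * ⟨v, hv⟩ := fun w => e.injective (by
            rw [map_mul, map_mul, h6]
            generalize e w = g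
            rcases g with j | j
            · rw [QuaternionGroup.a_mul_a, QuaternionGroup.a_mul_a, add_comm]
            · rw [QuaternionGroup.a_mul_xa, QuaternionGroup.xa_mul_a, QuaternionGroup.xa.injEq]
              have h0 : ((2 * 2 ^ (n - 1) : ℕ) : ZMod (2 * 2 ^ (n - 1))) = 0 := ZMod.natCast_self _
              push_cast at h0 ⊢
              linear_combination -h0)
          refine hYnc fun w hw => ?_
          by_contra hwe
          have hwe' : w.e = true := by simpa [base] using hwe
          -- every inner element is central, so `Y` is abelian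
          have hin : ∀ q ∈ Y, q.e = false → q ∈ Subgroup.center (Wr n) := fun q hq hqe =>
            center_of_commute_outer hn hqe hve (congrArg Subtype.val (hcv ⟨q, hq⟩)).symm
          have hcl : ∀ r ∈ Y, ∃ c ∈ Subgroup.center (Wr n), r = c ∨ r = c * v := by
            intro r hr
            by_cases hre : r.e = false
            · exact ⟨r, hin r hr hre, Or.inl rfl⟩
            · refine ⟨r * v⁻¹, hin _ (Y.mul_mem hr (Y.inv_mem hv)) ?_, Or.inr (by group)⟩
              simp [Bool.not_eq_false _ |>.mp hre, hve]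
          have hab : ∀ r : Y, ∀ s : Y, r * s = s * r := by
            rintro ⟨r, hr⟩ ⟨s, hs⟩
            refine Subtype.ext ?_
            show r * s = s * r
            obtain ⟨c, hc, rfl | rfl⟩ := hcl r hr <;> obtain ⟨d, hd, rfl | rfl⟩ := hcl s hs
            · exact (Subgroup.mem_center_iff.mp hc _).symm
            · exact (Subgroup.mem_center_iff.mp hc _).symm
            · exact Subgroup.mem_center_iff.mp hd _
            · have hcc := Subgroup.mem_center_iff.mp hc
              have hdd := Subgroup.mem_center_iff.mp hd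
              calc c * v * (d * v) = c * (v * d) * v := by group
                _ = c * (d * v) * v := by rw [hdd v]
                _ = (c * d) * v * v := by group
                _ = (d * c) * v * v := by rw [hdd c]
                _ = d * (c * v) * v := by group
                _ = d * (v * c) * v := by rw [hcc v]
                _ = _ := by group
          have := hab (e.symm (QuaternionGroup.a 1)) (e.symm (QuaternionGroup.xa 0))
          rw [← map_mul, ← map_mul, e.symm.injective.eq_iff, QuaternionGroup.a_mul_xa,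
            QuaternionGroup.xa_mul_a, QuaternionGroup.xa.injEq] at this
          exact h11 0 (by linear_combination -this)
      rcases hz with hz | hz
      · rw [((mem_center_iff' hn v).mp hz).1] at hve; exact absurd hve (by decide)
      · rw [hz] at hve; simp at hve
    · exact h
  have hle : Y ≤ quatSub h1 := by
    intro p hp
    show p.a + p.b = if p.e then half n else 0
    cases hpe : p.e
    · have h := hsum (p * u) (Y.mul_mem hp hu) (by simp [hpe, hue'])
      simp only [mul_a, mul_b, hpe, Bool.false_eq_true, if_false] at h ⊢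
      rw [add_add_add_comm, hsum u hu hue'] at h
      exact add_eq_right.mp h
    · simpa using hsum p hp hpe
  exact Subgroup.eq_of_le_of_card_ge hle (by rw [quatSub_card, hY])

end Cfsg.Lib.Wreathed
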