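import Cfsg.Agent.Wreathed.Facts
import Cfsg.Agent.InvolCalc.ZStarApps

/-!
Groups with wreathed Sylow 2-subgroup and an isolated involution: the centre of the Sylow
subgroup consists of isolated elements.
-/

set_option autoImplicit false
set_option linter.unusedSectionVars false

namespace Cfsg.Lib.Wreathed

open Subgroup

variable {n : ℕ}

/-- The centraliser of a noncentral element of the model is commutative. -/
theorem commute_of_commute_noncentral (hn : 2 ≤ n) {q x y : Wr n}
    (hq : q ∉ Subgroup.center (Wr n)) (hx : Commute x q) (hy : Commute y q) : Commute x y := by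
  cases hqe : q.e
  · have hin : ∀ p : Wr n, Commute p q → p.e = false := fun p hp => by
      by_contra h
      exact hq (center_of_commute_outer hn hqe (by simpa using h) hp.symm)
    exact congrArg (fun w : base n => (w : Wr n)) (base_comm ⟨x, hin x hx⟩ ⟨y, hin y hy⟩)
  · have hcl : ∀ p : Wr n, Commute p q → ∃ c ∈ Subgroup.center (Wr n), p = c ∨ p = c * q := by
      intro p hp
      cases hpe : p.e
      · exact ⟨p, center_of_commute_outer hn hpe hqe hp, Or.inl rfl⟩
      · exact ⟨p * q⁻¹, center_of_commute_outer hn (by simp [hpe, hqe]) hqe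
          (hp.mul_left (Commute.refl q).inv_left), Or.inr (by group)⟩
    have hcen : ∀ c ∈ Subgroup.center (Wr n), ∀ p, Commute c p :=
      fun c hc p => (Subgroup.mem_center_iff.mp hc p).symm
    obtain ⟨c, hc, rfl | rfl⟩ := hcl x hx <;> obtain ⟨d, hd, rfl | rfl⟩ := hcl y hy
    · exact hcen _ hc _
    · exact hcen _ hc _
    · exact (hcen _ hd _).symm
    · exact ((hcen c hc d).mul_right (hcen c hc q)).mul_left
        ((hcen d hd q).symm.mul_right (Commute.refl q))

/-- The central involution. -/
def zed (n : ℕ) : Wr n := ⟨half n, half n, false⟩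

theorem eq_zed_of_center (hn : 2 ≤ n) {q : Wr n} (hq : q ∈ Subgroup.center (Wr n))
    (h2 : orderOf q = 2) : q = zed n := by
  obtain ⟨he, hab⟩ := (mem_center_iff' hn q).mp hq
  obtain ⟨hsq, hne⟩ := (order_two_iff q).mp h2
  rcases (mul_self_iff q).mp hsq with ⟨-, ha, -⟩ | ⟨h, -⟩
  · rcases eq_zero_or_half (by omega) ha with h0 | h0
    · exact absurd (Wr.ext h0 (hab ▸ h0) he) hne
    · exact Wr.ext h0 (hab ▸ h0) he
  · rw [he] at h; exact absurd h (by decide)

section Ambient

variable {X : Type*} [Group X] [Finite X] (S : Sylow 2 X) (hn : 2 ≤ n)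
  (e : Wr n ≃* (S : Subgroup X))

/-- The model inside the ambient group. -/
def emb : Wr n →* X := (S : Subgroup X).subtype.comp e.toMonoidHom

theorem emb_injective : Function.Injective (emb S e) :=
  (S : Subgroup X).subtype_injective.comp e.injective

theorem emb_mem (p : Wr n) : emb S e p ∈ (S : Subgroup X) := (e p).2

theorem exists_emb {x : X} (hx : x ∈ (S : Subgroup X)) : ∃ p, emb S e p = x :=
  ⟨e.symm ⟨x, hx⟩, congrArg Subtype.val (e.apply_symm_apply ⟨x, hx⟩)⟩

theorem commute_emb {p q : Wr n} : Commute (emb S e p) (emb S e q) ↔ Commute p q := by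
  refine ⟨fun h => emb_injective S e ?_, fun h => h.map _⟩
  rw [map_mul, map_mul]
  exact h.eq

include hn in
/-- An isolated involution of the Sylow subgroup is the central one. -/
theorem isolated_eq {z : X} (hz : Cfsg.IsIsolatedInvolution z) (hzS : z ∈ (S : Subgroup X)) :
    z = emb S e (zed n) := by
  haveI : Fact (Nat.Prime 2) := ⟨Nat.prime_two⟩
  obtain ⟨p, rfl⟩ := exists_emb S e hzS
  have hc : p ∈ Subgroup.center (Wr n) := by
    rw [Subgroup.mem_center_iff]
    intro q
    have h1 := Cfsg.Lib.ZStarApps.zstarProp hz (emb S e q)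
    have h2 : emb S e (p * q * p⁻¹ * q⁻¹) ∈ Cfsg.pPrimeCore 2 X := by
      simpa using h1
    obtain ⟨k, hk⟩ := IsPGroup.iff_card.mp S.isPGroup'
    have h3 : (Cfsg.pPrimeCore 2 X) ⊓ (S : Subgroup X) = ⊥ :=
      inf_eq_bot_of_coprime (by
        rw [hk]
        exact (Cfsg.Lib.Components.coprime_card_pPrimeCore 2).pow_right k)
    have h4 : emb S e (p * q * p⁻¹ * q⁻¹) = 1 :=
      Subgroup.mem_bot.mp (h3 ▸ ⟨h2, emb_mem S e _⟩)
    rw [← map_one (emb S e)] at h4
    exact (mul_inv_eq_iff_eq_mul.mp (mul_inv_eq_one.mp (emb_injective S e h4))).symm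
  have h2 : orderOf p = 2 := by rw [← orderOf_injective _ (emb_injective S e), hz.1]
  rw [eq_zed_of_center hn hc h2]

variable (hz : Cfsg.IsIsolatedInvolution (emb S e (zed n)))

include hn hz

/-- Elements of odd order normalising the base centralise it. -/
theorem odd_centralizes_base {g : X} (hg : g ∈ normalizer (((base n).map (emb S e) : Subgroup X) : Set X))
    (hodd : Odd (orderOf g)) (p : Wr n) (hp : p ∈ base n) :
    g * emb S e p * g⁻¹ = emb S e p := by
  have h1 : 1 ≤ n := by omega
  have hzb : zed n ∈ base n := rfl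
  -- the conjugation action
  have hmap : ∀ r ∈ base n, ∃ r' ∈ base n, g * emb S e r * g⁻¹ = emb S e r' := fun r hr => by
    obtain ⟨r', hr', he'⟩ := (mem_normalizer_iff.mp hg (emb S e r)).mp ⟨r, hr, rfl⟩
    exact ⟨r', hr', he'.symm⟩
  have hfixz : g * emb S e (zed n) * g⁻¹ = emb S e (zed n) := by
    obtain ⟨r, hr, hre⟩ := hmap _ hzb
    refine hz.2 g ?_
    rw [hre, commute_emb]
    exact congrArg (fun w : base n => (w : Wr n)) (base_comm ⟨_, hzb⟩ ⟨r, hr⟩)
  obtain ⟨m, hm⟩ := hodd
  have hgm : g ^ (2 * m + 1) = 1 := by rw [← hm]; exact pow_orderOf_eq_one g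
  -- the involutions of the base
  have hfix2 : ∀ r ∈ base n, r * r = 1 → g * emb S e r * g⁻¹ = emb S e r := by
    intro r hr hrr
    have hcase : ∀ w ∈ base n, w * w = 1 → w = 1 ∨ w = zed n ∨
        w = ⟨half n, 0, false⟩ ∨ w = ⟨0, half n, false⟩ := by
      intro w hw hww
      rcases (mul_self_iff w).mp hww with ⟨he, ha, hb⟩ | ⟨he, -⟩
      · rcases eq_zero_or_half h1 ha with ha | ha <;> rcases eq_zero_or_half h1 hb with hb | hb
        · exact Or.inl (Wr.ext ha hb he)
        · exact Or.inr (Or.inr (Or.inr (Wr.ext ha hb he)))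
        · exact Or.inr (Or.inr (Or.inl (Wr.ext ha hb he)))
        · exact Or.inr (Or.inl (Wr.ext ha hb he))
      · rw [show w.e = false from hw] at he; exact absurd he (by decide)
    -- `g * g` fixes `r`
    have hsq : g * (g * emb S e r * g⁻¹) * g⁻¹ = emb S e r := by
      obtain ⟨a, ha, hae⟩ := hmap r hr
      obtain ⟨b, hb, hbe⟩ := hmap a ha
      have hinj : ∀ u v : X, g * u * g⁻¹ = g * v * g⁻¹ → u = v := fun u v h => by
        simpa using h
      have haa : a * a = 1 := emb_injective S e (by
        rw [map_mul, map_one, ← hae,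
          show g * emb S e r * g⁻¹ * (g * emb S e r * g⁻¹) = g * (emb S e r * emb S e r) * g⁻¹ by
            group, ← map_mul, hrr, map_one]
        group)
      have hbb : b * b = 1 := emb_injective S e (by
        rw [map_mul, map_one, ← hbe,
          show g * emb S e a * g⁻¹ * (g * emb S e a * g⁻¹) = g * (emb S e a * emb S e a) * g⁻¹ by
            group, ← map_mul, haa, map_one]
        group)
      rw [hae, hbe]
      congr 1
      -- a permutation of three points fixing one of them has trivial square
      by_cases hr0 : r = 1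
      · subst hr0
        have : a = 1 := emb_injective S e (by rw [← hae, map_one]; group)
        subst this
        exact emb_injective S e (by rw [← hbe, map_one]; group)
      by_cases hrz : r = zed n
      · subst hrz
        have : a = zed n := emb_injective S e (hae.symm.trans hfixz)
        subst this
        exact emb_injective S e (hbe.symm.trans hfixz)
      by_cases hra : r = a
      · subst hra
        exact emb_injective S e (hbe.symm.trans hae)
      have ha0 : a ≠ 1 := fun h => hr0 (emb_injective S e (hinj _ _ (by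
        rw [hae, h, map_one]; group)))
      have haz : a ≠ zed n := fun h => hrz (emb_injective S e (hinj _ _ (by
        rw [hae, h, hfixz])))
      have hb0 : b ≠ 1 := fun h => ha0 (emb_injective S e (hinj _ _ (by
        rw [hbe, h, map_one]; group)))
      have hbz : b ≠ zed n := fun h => haz (emb_injective S e (hinj _ _ (by
        rw [hbe, h, hfixz])))
      have hba : b ≠ a := fun h => hra (emb_injective S e (hinj _ _ (by
        rw [hae, hbe, h])))
      have A := hcase a ha haa
      have B := hcase b hb hbb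
      have R := hcase r hr hrr
      rcases R with R | R | R | R
      · exact absurd R hr0
      · exact absurd R hrz
      all_goals
        rcases A with A | A | A | A
        · exact absurd A ha0
        · exact absurd A haz
        all_goals
          rcases B with B | B | B | B
          · exact absurd B hb0
          · exact absurd B hbz
          all_goals first
            | exact B.trans R.symm
            | exact absurd (R.trans A.symm) hra
            | exact absurd (B.trans A.symm) hba
    have hev : ∀ k : ℕ, g ^ (2 * k) * emb S e r * (g ^ (2 * k))⁻¹ = emb S e r := by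
      intro k
      induction k with
      | zero => simp
      | succ k ih =>
        calc g ^ (2 * (k + 1)) * emb S e r * (g ^ (2 * (k + 1)))⁻¹
            = g * (g * (g ^ (2 * k) * emb S e r * (g ^ (2 * k))⁻¹) * g⁻¹) * g⁻¹ := by
              rw [show 2 * (k + 1) = 2 * k + 1 + 1 by ring, pow_succ', pow_succ']
              group
          _ = emb S e r := by rw [ih, hsq]
    have := hev (m + 1)
    rwa [show 2 * (m + 1) = (2 * m + 1) + 1 by ring, pow_succ, hgm, one_mul] at this
  -- climb up the base
  have hrec : ∀ j : ℕ, ∀ r ∈ base n, r ^ (2 ^ j) = 1 → g * emb S e r * g⁻¹ = emb S e r := by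
    intro j
    induction j with
    | zero =>
      intro r _ h
      rw [pow_zero, pow_one] at h
      rw [h, map_one]
      group
    | succ j ih =>
      intro r hr h
      obtain ⟨a, ha, hae⟩ := hmap r hr
      have hcomm : Commute r a :=
        congrArg (fun w : base n => (w : Wr n)) (base_comm ⟨r, hr⟩ ⟨a, ha⟩)
      have h2 := ih (r * r) (mul_mem hr hr) (by rw [← pow_two, ← pow_mul, ← pow_succ']; exact h)
      set w := r⁻¹ * a
      have hw : w ∈ base n := mul_mem (inv_mem hr) ha
      have hww : w * w = 1 := by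
        have h3 : a * a = r * r := emb_injective S e (by
          rw [map_mul, ← hae,
            show g * emb S e r * g⁻¹ * (g * emb S e r * g⁻¹) = g * (emb S e r * emb S e r) * g⁻¹ by
              group, ← map_mul, h2])
        calc w * w = r⁻¹ * (a * r⁻¹) * a := by simp only [w]; group
          _ = r⁻¹ * (r⁻¹ * a) * a := by rw [hcomm.inv_left.eq]
          _ = r⁻¹ * r⁻¹ * (a * a) := by group
          _ = 1 := by rw [h3]; group
      have hfw := hfix2 w hw hww
      have hj : ∀ i : ℕ, g ^ i * emb S e r * (g ^ i)⁻¹ = emb S e r * emb S e w ^ i := by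
        intro i
        induction i with
        | zero => simp
        | succ i ihi =>
          calc g ^ (i + 1) * emb S e r * (g ^ (i + 1))⁻¹
              = g * (g ^ i * emb S e r * (g ^ i)⁻¹) * g⁻¹ := by rw [pow_succ']; group
            _ = (g * emb S e r * g⁻¹) * (g * emb S e w * g⁻¹) ^ i := by
              rw [ihi, conj_pow]; group
            _ = emb S e r * emb S e w ^ (i + 1) := by
              rw [hae, hfw, show a = r * w by simp only [w]; group, map_mul, pow_succ']
              group
      have h4 := hj (2 * m + 1)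
      rw [hgm] at h4
      simp only [one_mul, inv_one, mul_one, left_eq_mul] at h4
      rw [pow_succ, pow_mul, pow_two, ← map_mul, hww, map_one, one_pow, one_mul] at h4
      rw [hae, show a = r * w by simp only [w]; group, map_mul, h4, mul_one]
  refine hrec (2 * n + 1) p hp ?_
  rw [← Wr.card_eq]
  exact pow_card_eq_one'

/-- The normaliser of the base centralises the centre of the Sylow subgroup. -/
theorem normalizer_base_fixes {g : X}
    (hg : g ∈ normalizer (((base n).map (emb S e) : Subgroup X) : Set X)) {p : Wr n}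
    (hp : p ∈ Subgroup.center (Wr n)) : g * emb S e p * g⁻¹ = emb S e p := by
  haveI : Fact (Nat.Prime 2) := ⟨Nat.prime_two⟩
  set U := (base n).map (emb S e) with hU
  set N := normalizer (U : Set X) with hN
  have hSN : (S : Subgroup X) ≤ N := fun s hs => by
    obtain ⟨q, rfl⟩ := exists_emb S e hs
    refine Cfsg.Lib.ZStarApps.mem_normalizer_of_maps ?_
    rintro _ ⟨r, hr, rfl⟩
    refine ⟨q * r * q⁻¹, ?_, by simp⟩
    show (q * r * q⁻¹).e = false
    rw [conj_formula]
    exact hr
  set M := (centralizer (U : Set X)).subgroupOf N with hM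
  haveI : M.Normal := by
    refine ⟨fun x hx y => ?_⟩
    rw [hM, mem_subgroupOf, mem_centralizer_iff] at hx ⊢
    intro u hu
    have hu' : (y : X)⁻¹ * u * (y : X) ∈ U := by
      simpa using (mem_normalizer_iff.mp (N.inv_mem y.2) u).mp hu
    have := hx _ hu'
    show u * ((y : X) * x * (y : X)⁻¹) = (y : X) * x * (y : X)⁻¹ * u
    calc u * ((y : X) * x * (y : X)⁻¹)
        = (y : X) * ((y : X)⁻¹ * u * y * x) * (y : X)⁻¹ := by group
      _ = (y : X) * (x * ((y : X)⁻¹ * u * y)) * (y : X)⁻¹ := by rw [this]
      _ = _ := by group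
  have hq : IsPGroup 2 (N ⧸ M) := by
    intro x
    obtain ⟨y, rfl⟩ := QuotientGroup.mk'_surjective M x
    obtain ⟨k, m, hm, hk⟩ := Nat.exists_eq_two_pow_mul_odd (orderOf_pos (y : X)).ne'
    refine ⟨k, ?_⟩
    rw [← map_pow]
    refine (QuotientGroup.eq_one_iff _).mpr ?_
    rw [hM, mem_subgroupOf, mem_centralizer_iff]
    rintro _ ⟨r, hr, rfl⟩
    rw [SubgroupClass.coe_pow]
    have hodd : Odd (orderOf ((y : X) ^ 2 ^ k)) := by
      rw [orderOf_pow' _ (Nat.two_pow_pos k).ne', hk, Nat.gcd_eq_right (Dvd.intro _ rfl),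
        Nat.mul_div_cancel_left _ (Nat.two_pow_pos k)]
      exact hm
    exact (mul_inv_eq_iff_eq_mul.mp
      (odd_centralizes_base S hn e hz (pow_mem y.2 _) hodd r hr)).symm
  have htop : ((S.subtype hSN).mapSurjective (QuotientGroup.mk'_surjective M) :
      Subgroup (N ⧸ M)) = ⊤ :=
    (((S.subtype hSN).mapSurjective (QuotientGroup.mk'_surjective M)).is_maximal'
      (hq.to_subgroup ⊤) le_top).symm
  obtain ⟨s, hs, hse⟩ : QuotientGroup.mk' M ⟨g, hg⟩ ∈
      ((S.subtype hSN).mapSurjective (QuotientGroup.mk'_surjective M) : Subgroup (N ⧸ M)) :=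
    htop ▸ Subgroup.mem_top _
  have hmem : (s⁻¹ * ⟨g, hg⟩ : N) ∈ M := QuotientGroup.eq.mp hse
  have hc := mem_subgroupOf.mp hmem
  rw [mem_centralizer_iff] at hc
  have h1 : emb S e p * ((s : X)⁻¹ * g) = (s : X)⁻¹ * g * emb S e p :=
    hc (emb S e p) ⟨p, ((mem_center_iff' hn p).mp hp).1, rfl⟩
  obtain ⟨q, hq⟩ := exists_emb S e (x := (s : X)) hs
  have h2 : Commute (emb S e p) (s : X) := by
    rw [← hq, commute_emb]
    exact (Subgroup.mem_center_iff.mp hp q).symm
  rw [mul_inv_eq_iff_eq_mul]
  calc g * emb S e p = (s : X) * (((s : X)⁻¹ * g) * emb S e p) := by group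
    _ = (s : X) * (emb S e p * ((s : X)⁻¹ * g)) := by rw [h1]
    _ = (s : X) * emb S e p * (s : X)⁻¹ * g := by group
    _ = emb S e p * g := by rw [← h2.eq]; group

/-- A conjugate, lying in the base, of a central element equals it. -/
theorem eq_of_conj_mem_base {g : X} {p r : Wr n} (hp : p ∈ Subgroup.center (Wr n))
    (hr : r ∈ base n) (hg : g * emb S e p * g⁻¹ = emb S e r) : r = p := by
  haveI : Fact (Nat.Prime 2) := ⟨Nat.prime_two⟩
  set U := (base n).map (emb S e) with hU
  set C := centralizer ({emb S e r} : Set X) with hC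
  have hUC : U ≤ C := by
    rintro _ ⟨q, hq, rfl⟩
    rw [hC, mem_centralizer_singleton_iff, ← map_mul, ← map_mul]
    exact congrArg (emb S e) (congrArg (fun w : base n => (w : Wr n)) (base_comm ⟨q, hq⟩ ⟨r, hr⟩))
  have hTC : ((g • S : Sylow 2 X) : Subgroup X) ≤ C := by
    intro x hx
    rw [Sylow.coe_subgroup_smul, Subgroup.mem_pointwise_smul_iff_inv_smul_mem] at hx
    obtain ⟨q, hq⟩ := exists_emb S e (x := g⁻¹ * x * g) (by simpa [MulAut.smul_def] using hx)
    rw [hC, mem_centralizer_singleton_iff, ← hg]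
    have h : Commute (emb S e q) (emb S e p) := (commute_emb S e).mpr (Subgroup.mem_center_iff.mp hp q)
    rw [hq] at h
    calc x * (g * emb S e p * g⁻¹) = g * (g⁻¹ * x * g * emb S e p) * g⁻¹ := by group
      _ = g * (emb S e p * (g⁻¹ * x * g)) * g⁻¹ := by rw [h.eq]
      _ = _ := by group
  obtain ⟨c, hc, hcU⟩ := Cfsg.Lib.ZStarApps.exists_conj_mem_sylow (g • S) hTC
    (S.isPGroup'.of_injective _ (inclusion_injective
      (by rintro _ ⟨q, -, rfl⟩; exact emb_mem S e q : U ≤ (S : Subgroup X)))) hUC
  set k := g⁻¹ * c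
  have hkr : k * emb S e r * k⁻¹ = emb S e p := by
    have h := mem_centralizer_singleton_iff.mp hc
    calc k * emb S e r * k⁻¹ = g⁻¹ * (c * emb S e r * c⁻¹) * g := by simp only [k]; group
      _ = g⁻¹ * (g * emb S e p * g⁻¹) * g := by rw [h, mul_inv_cancel_right, hg]
      _ = _ := by group
  have hkU : ∀ u ∈ U, k * u * k⁻¹ ∈ (S : Subgroup X) := fun u hu => by
    have h := hcU u hu
    rw [Sylow.coe_subgroup_smul, Subgroup.mem_pointwise_smul_iff_inv_smul_mem] at h
    simpa [MulAut.smul_def, k, mul_assoc] using h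
  let f : base n →* Wr n := MonoidHom.mk'
    (fun q => e.symm ⟨k * emb S e q * k⁻¹, hkU _ ⟨q, q.2, rfl⟩⟩) fun a b => by
      rw [← map_mul]
      congr 1
      exact Subtype.ext (by simp [mul_assoc])
  have hf : Function.Injective f := fun a b hab => by
    have := congrArg Subtype.val (e.symm.injective hab)
    exact Subtype.ext (emb_injective S e (by simpa using this))
  have himg : f.range = base n := by
    refine existsUnique_abelian hn _ ⟨⟨?_⟩⟩ ?_
    · rintro ⟨_, a, rfl⟩ ⟨_, b, rfl⟩
      exact Subtype.ext (by show f a * f b = f b * f a; rw [← map_mul, ← map_mul, base_comm])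
    · rw [← Nat.card_congr (MonoidHom.ofInjective hf).toEquiv, base_card]
  have hkN : k ∈ normalizer (U : Set X) := Cfsg.Lib.ZStarApps.mem_normalizer_of_maps (by
    rintro _ ⟨q, hq, rfl⟩
    refine ⟨f ⟨q, hq⟩, himg.le ⟨_, rfl⟩, ?_⟩
    show ((e (e.symm _) : (S : Subgroup X)) : X) = _
    rw [e.apply_symm_apply])
  have h := normalizer_base_fixes S hn e hz (inv_mem hkN) hp
  refine emb_injective S e ?_
  rw [← h, ← hkr]
  group

/-- The elements of the centre of the Sylow subgroup are isolated. -/
theorem conj_center_eq {g : X} {p : Wr n} (hp : p ∈ Subgroup.center (Wr n))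
    (hg : g * emb S e p * g⁻¹ ∈ (S : Subgroup X)) : g * emb S e p * g⁻¹ = emb S e p := by
  haveI : Fact (Nat.Prime 2) := ⟨Nat.prime_two⟩
  obtain ⟨r, hr⟩ := exists_emb S e hg
  cases hre : r.e
  · rw [← hr, eq_of_conj_mem_base S hn e hz hp hre hr.symm]
  exfalso
  have hcen : ∀ {q : Wr n}, q ∈ Subgroup.center (Wr n) → ∀ s, Commute q s :=
    fun hq s => (Subgroup.mem_center_iff.mp hq s).symm
  have hpe : p.e = false := ((mem_center_iff' hn p).mp hp).1
  have hrr : r * r = p * p := eq_of_conj_mem_base S hn e hz (mul_mem hp hp)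
    (show (r * r).e = false by simp [hre]) (g := g) (by
      rw [map_mul, map_mul, hr]; group)
  set w := p⁻¹ * r with hw
  have hwe : w.e = true := by simp [hw, hre, hpe]
  have hww : w * w = 1 := by
    calc w * w = p⁻¹ * (r * p⁻¹) * r := by simp only [hw]; group
      _ = p⁻¹ * (p⁻¹ * r) * r := by rw [((hcen hp r).inv_left).eq]
      _ = p⁻¹ * p⁻¹ * (r * r) := by group
      _ = 1 := by rw [hrr]; group
  -- move `p` and `r` into the Sylow subgroup with `r` going to `p`
  set C := centralizer ({emb S e p} : Set X) with hC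
  have hSC : (S : Subgroup X) ≤ C := fun x hx => by
    obtain ⟨q, rfl⟩ := exists_emb S e hx
    rw [hC, mem_centralizer_singleton_iff]
    exact ((commute_emb S e).mpr (hcen hp q).symm).eq
  set V := (zpowers (emb S e p) ⊔ zpowers (emb S e r)).map (MulAut.conj g⁻¹).toMonoidHom with hV
  have hVp : IsPGroup 2 V := by
    refine IsPGroup.map ?_ _
    exact S.isPGroup'.of_injective _ (inclusion_injective
      (sup_le (zpowers_le.mpr (emb_mem S e p)) (zpowers_le.mpr (emb_mem S e r))))
  have hgr : g⁻¹ * emb S e r * g = emb S e p := by rw [hr]; group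
  have hVC : V ≤ C := by
    rw [hV, Subgroup.map_sup, MonoidHom.map_zpowers, MonoidHom.map_zpowers, sup_le_iff,
      zpowers_le, zpowers_le]
    have h2 : (MulAut.conj g⁻¹).toMonoidHom (emb S e r) = emb S e p := by simpa using hgr
    refine ⟨?_, ?_⟩
    · have h3 := ((commute_emb S e).mpr (hcen hp r)).map (MulAut.conj g⁻¹).toMonoidHom
      rw [h2] at h3
      rw [hC, mem_centralizer_singleton_iff]
      exact h3.eq
    · rw [h2, hC, mem_centralizer_singleton_iff]
  obtain ⟨c, hc, hcV⟩ := Cfsg.Lib.ZStarApps.exists_conj_mem_sylow S hSC hVp hVC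
  set k := c * g⁻¹
  have hkr : k * emb S e r * k⁻¹ = emb S e p := by
    calc k * emb S e r * k⁻¹ = c * (g⁻¹ * emb S e r * g) * c⁻¹ := by simp only [k]; group
      _ = _ := by rw [hgr, mem_centralizer_singleton_iff.mp hc, mul_inv_cancel_right]
  obtain ⟨p', hp'⟩ := exists_emb S e (x := k * emb S e p * k⁻¹) (by
    have h := hcV _ ⟨_, mem_sup_left (mem_zpowers _), rfl⟩
    simpa [k, mul_assoc] using h)
  cases hp'e : p'.e
  · have h := eq_of_conj_mem_base S hn e hz hp hp'e (g := k) hp'.symm
    rw [h] at hp'
    have : r = p := emb_injective S e (by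
      have h3 : k * emb S e r * k⁻¹ = k * emb S e p * k⁻¹ := hkr.trans hp'
      simpa using h3)
    rw [this, hpe] at hre
    exact absurd hre (by decide)
  have hpp' : p' * p' = p * p := eq_of_conj_mem_base S hn e hz (mul_mem hp hp)
    (show (p' * p').e = false by simp [hp'e]) (g := k) (by
      rw [map_mul, map_mul, hp']; group)
  set w' := p⁻¹ * p' with hw'
  have hw'w : w' * w' = 1 := by
    calc w' * w' = p⁻¹ * (p' * p⁻¹) * p' := by simp only [hw']; group
      _ = p⁻¹ * (p⁻¹ * p') * p' := by rw [((hcen hp p').inv_left).eq]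
      _ = p⁻¹ * p⁻¹ * (p' * p') := by group
      _ = 1 := by rw [hpp']; group
  obtain ⟨c₁, hc₁⟩ := conj_outer_involution (p := w) hwe hww
  obtain ⟨c₂, hc₂⟩ := conj_outer_involution (p := w') (by simp [hw', hp'e, hpe]) hw'w
  set s := c₁ * c₂⁻¹
  have hs : s * w' * s⁻¹ = w := by rw [← hc₁, ← hc₂]; simp only [s]; group
  set a := emb S e s * k
  have hap : a * emb S e p * a⁻¹ = emb S e r := by
    calc a * emb S e p * a⁻¹ = emb S e s * (k * emb S e p * k⁻¹) * (emb S e s)⁻¹ := by
          simp only [a]; group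
      _ = emb S e (s * (p * w') * s⁻¹) := by rw [← hp', hw']; simp [mul_assoc]
      _ = emb S e r := by
        congr 1
        calc s * (p * w') * s⁻¹ = (s * p * s⁻¹) * (s * w' * s⁻¹) := by group
          _ = p * w := by rw [hs, (hcen hp s).symm.eq, mul_inv_cancel_right]
          _ = r := by simp only [hw]; group
  have har : a * emb S e r * a⁻¹ = emb S e p := by
    calc a * emb S e r * a⁻¹ = emb S e s * (k * emb S e r * k⁻¹) * (emb S e s)⁻¹ := by
          simp only [a]; group
      _ = emb S e (s * p * s⁻¹) := by rw [hkr]; simp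
      _ = _ := by rw [(hcen hp s).symm.eq, mul_inv_cancel_right]
  have haw : a * emb S e w * a⁻¹ = emb S e w := by
    calc a * emb S e w * a⁻¹ = (a * emb S e p * a⁻¹)⁻¹ * (a * emb S e r * a⁻¹) := by
          simp only [hw, map_mul, map_inv]; group
      _ = emb S e (r⁻¹ * p) := by rw [hap, har]; simp
      _ = emb S e w := by
        congr 1
        have h1 : (p⁻¹ * r)⁻¹ = p⁻¹ * r := inv_eq_of_mul_eq_one_right hww
        rw [show r⁻¹ * p = (p⁻¹ * r)⁻¹ by group, h1]
  -- pass to the 2-part of `a`
  obtain ⟨i, m, hm, ho⟩ := Nat.exists_eq_two_pow_mul_odd (orderOf_pos a).ne'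
  have hswap : ∀ j : ℕ, a ^ (2 * j + 1) * emb S e p * (a ^ (2 * j + 1))⁻¹ = emb S e r := by
    intro j
    induction j with
    | zero => simpa using hap
    | succ j ih =>
      calc a ^ (2 * (j + 1) + 1) * emb S e p * (a ^ (2 * (j + 1) + 1))⁻¹
          = a * (a * (a ^ (2 * j + 1) * emb S e p * (a ^ (2 * j + 1))⁻¹) * a⁻¹) * a⁻¹ := by
            rw [show 2 * (j + 1) + 1 = 2 * j + 1 + 1 + 1 by ring, pow_succ' a (2 * j + 1 + 1),
              pow_succ' a (2 * j + 1)]
            group
        _ = emb S e r := by rw [ih, har, hap]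
  set b := a ^ m
  have hbp : b * emb S e p * b⁻¹ = emb S e r := by
    obtain ⟨j, rfl⟩ := hm
    exact hswap j
  have hbw : b * emb S e w * b⁻¹ = emb S e w := by
    have h : Commute a (emb S e w) := mul_inv_eq_iff_eq_mul.mp haw
    rw [(h.pow_left m).eq, mul_inv_cancel_right]
  have hb2 : IsPGroup 2 (zpowers b) := IsPGroup.of_card (n := i) (by
    rw [Nat.card_zpowers, orderOf_pow' _ hm.pos.ne', ho, Nat.gcd_eq_right (dvd_mul_left m _),
      Nat.mul_div_cancel _ hm.pos])
  set E := zpowers (emb S e p) ⊔ zpowers (emb S e w)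
  have hpw : Commute (emb S e p) (emb S e w) := (commute_emb S e).mpr (hcen hp w)
  have hbN : zpowers b ≤ normalizer (E : Set X) := by
    rw [zpowers_le]
    refine Cfsg.Lib.ZStarApps.mem_normalizer_of_maps fun x hx => ?_
    have hmap : E.map (MulAut.conj b).toMonoidHom ≤ E := by
      rw [Subgroup.map_sup, MonoidHom.map_zpowers, MonoidHom.map_zpowers, sup_le_iff, zpowers_le,
        zpowers_le]
      refine ⟨?_, ?_⟩
      · rw [show (MulAut.conj b).toMonoidHom (emb S e p) = emb S e r from hbp,
          show r = p * w by simp only [hw]; group, map_mul]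
        exact mul_mem_sup (mem_zpowers _) (mem_zpowers _)
      · rw [show (MulAut.conj b).toMonoidHom (emb S e w) = emb S e w from hbw]
        exact mem_sup_right (mem_zpowers _)
    exact hmap ⟨x, hx, rfl⟩
  have hE2 : IsPGroup 2 E := S.isPGroup'.of_injective _ (inclusion_injective
    (sup_le (zpowers_le.mpr (emb_mem S e p)) (zpowers_le.mpr (emb_mem S e w))))
  have hP : IsPGroup 2 (E ⊔ zpowers b : Subgroup X) := hE2.to_sup_of_normal_left' hb2 hbN
  obtain ⟨d, -, hd⟩ := Cfsg.Lib.ZStarApps.exists_conj_mem_sylow S le_top hP le_top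
  obtain ⟨x, hx⟩ := exists_emb S e (hd _ (mem_sup_left (mem_sup_left (mem_zpowers (emb S e p)))))
  obtain ⟨t, ht⟩ := exists_emb S e (hd _ (mem_sup_left (mem_sup_right (mem_zpowers (emb S e w)))))
  obtain ⟨y, hy⟩ := exists_emb S e (hd _ (mem_sup_right (mem_zpowers b)))
  have ht2 : orderOf t = 2 := by
    rw [← orderOf_injective _ (emb_injective S e), ht, Cfsg.Lib.Isolated.orderOf_conj',
      orderOf_injective _ (emb_injective S e), order_two_iff]
    exact ⟨hww, fun h => by rw [h] at hwe; simp at hwe⟩
  have htnc : t ∉ Subgroup.center (Wr n) := fun h => by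
    rw [eq_zed_of_center hn h ht2] at ht
    have h1 : d⁻¹ * emb S e (zed n) * d⁻¹⁻¹ = emb S e w := by rw [ht]; group
    have h2 := hz.2 d⁻¹ (by
      rw [h1, commute_emb]
      exact hcen (by rw [mem_center_iff' hn]; exact ⟨rfl, rfl⟩) w)
    rw [h1] at h2
    rw [emb_injective S e h2] at hwe
    exact absurd hwe (by simp [zed])
  have hxt : Commute x t := by
    rw [← commute_emb S e, hx, ht, Cfsg.Lib.Isolated.commute_conj_iff]
    exact hpw
  have hyt : Commute y t := by
    rw [← commute_emb S e, hy, ht, Cfsg.Lib.Isolated.commute_conj_iff]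
    exact mul_inv_eq_iff_eq_mul.mp hbw
  have hxy := commute_of_commute_noncentral hn htnc hxt hyt
  rw [← commute_emb S e, hx, hy, Cfsg.Lib.Isolated.commute_conj_iff] at hxy
  have : r = p := emb_injective S e (by rw [← hbp, ← hxy.eq, mul_inv_cancel_right])
  rw [this, hpe] at hre
  exact absurd hre (by decide)

end Ambient

end Cfsg.Lib.Wreathed
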