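import Mathlib
import Cfsg.Prelude.Def_CaseTheorems

/-!
The wreath product of a cyclic 2-group with a group of order 2, in coordinates.
-/

set_option autoImplicit false

namespace Cfsg.Lib.Wreathed

/-- `Z_{2^n} ≀ Z_2` in coordinates. -/
@[ext]
structure Wr (n : ℕ) where
  a : ZMod (2 ^ n)
  b : ZMod (2 ^ n)
  e : Bool
deriving DecidableEq

namespace Wr

variable {n : ℕ}

instance : One (Wr n) := ⟨⟨0, 0, false⟩⟩
instance : Mul (Wr n) :=
  ⟨fun p q => ⟨p.a + (if p.e then q.b else q.a), p.b + (if p.e then q.a else q.b), xor p.e q.e⟩⟩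
instance : Inv (Wr n) :=
  ⟨fun p => ⟨if p.e then -p.b else -p.a, if p.e then -p.a else -p.b, p.e⟩⟩

@[simp] theorem one_a : (1 : Wr n).a = 0 := rfl
@[simp] theorem one_b : (1 : Wr n).b = 0 := rfl
@[simp] theorem one_e : (1 : Wr n).e = false := rfl
@[simp] theorem mul_a (p q : Wr n) : (p * q).a = p.a + (if p.e then q.b else q.a) := rfl
@[simp] theorem mul_b (p q : Wr n) : (p * q).b = p.b + (if p.e then q.a else q.b) := rfl
@[simp] theorem mul_e (p q : Wr n) : (p * q).e = xor p.e q.e := rfl
@[simp] theorem inv_a (p : Wr n) : p⁻¹.a = if p.e then -p.b else -p.a := rfl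
@[simp] theorem inv_b (p : Wr n) : p⁻¹.b = if p.e then -p.a else -p.b := rfl
@[simp] theorem inv_e (p : Wr n) : p⁻¹.e = p.e := rfl

instance : Group (Wr n) where
  mul_assoc p q r := by
    rcases p with ⟨pa, pb, _ | _⟩ <;> rcases q with ⟨qa, qb, _ | _⟩ <;>
      rcases r with ⟨ra, rb, _ | _⟩ <;> ext <;> simp [add_assoc]
  one_mul p := by ext <;> simp
  mul_one p := by rcases p with ⟨pa, pb, _ | _⟩ <;> ext <;> simp
  inv_mul_cancel p := by rcases p with ⟨pa, pb, _ | _⟩ <;> ext <;> simp

/-- The underlying triple. -/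
def equivTriple : Wr n ≃ ZMod (2 ^ n) × ZMod (2 ^ n) × Bool where
  toFun p := (p.a, p.b, p.e)
  invFun t := ⟨t.1, t.2.1, t.2.2⟩
  left_inv _ := rfl
  right_inv _ := rfl

instance : Finite (Wr n) := Finite.of_equiv _ equivTriple.symm

theorem card_eq : Nat.card (Wr n) = 2 ^ (2 * n + 1) := by
  rw [Nat.card_congr equivTriple, Nat.card_prod, Nat.card_prod, Nat.card_zmod,
    Nat.card_eq_fintype_card (α := Bool), Fintype.card_bool]
  ring

end Wr

section Iso

variable {S : Type*} [Group S]

/-- The power map on `ZMod N` for an element whose order divides `N`. -/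
noncomputable def zmodPow {N : ℕ} (x : S) (hx : orderOf x ∣ N) : Multiplicative (ZMod N) →* S :=
  MonoidHom.toHomUnits ((ZMod.lift N ⟨(zpowersHom S x).toAdditiveRight, by
    show Additive.ofMul ((zpowersHom S x) (Multiplicative.ofAdd (N : ℤ))) = 0
    simp [zpowersHom_apply, orderOf_dvd_iff_pow_eq_one.mp hx]⟩).toMultiplicativeLeft) |> (Units.coeHom S).comp

theorem zmodPow_apply {N : ℕ} (x : S) (hx : orderOf x ∣ N) (k : ℤ) :
    zmodPow x hx (Multiplicative.ofAdd (k : ZMod N)) = x ^ k := by
  simp [zmodPow, zpowersHom_apply]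

theorem exists_zmodPow {N : ℕ} (x : S) (hx : orderOf x ∣ N) (a : ZMod N) :
    ∃ k : ℤ, (k : ZMod N) = a ∧ zmodPow x hx (Multiplicative.ofAdd a) = x ^ k := by
  obtain ⟨k, rfl⟩ := ZMod.intCast_surjective a
  exact ⟨k, rfl, zmodPow_apply x hx k⟩

/-- A wreathed group is isomorphic to the model. -/
theorem exists_equiv [Finite S] (hS : Cfsg.IsWreathed S) :
    ∃ n, 2 ≤ n ∧ Nat.card S = 2 ^ (2 * n + 1) ∧ Nonempty (Wr n ≃* S) := by
  obtain ⟨n, hn, hcard, x, y, z, hx, hxy, hd, hz, hzxy⟩ := hS
  have hz2 : z * z = 1 := by rw [← pow_two, ← hz, pow_orderOf_eq_one]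
  have hzy : z * y * z⁻¹ = x := by
    rw [← hzxy, show z * (z * x * z⁻¹) * z⁻¹ = z * z * x * (z * z)⁻¹ by group, hz2, one_mul,
      inv_one, mul_one]
  have hy : orderOf y = 2 ^ n := by rw [← hzxy, ← MulAut.conj_apply, MulEquiv.orderOf_eq, hx]
  set px := zmodPow x hx.dvd
  set py := zmodPow y hy.dvd
  have hcomm : ∀ c d, px c * py d = py d * px c := fun c d => by
    obtain ⟨i, -, hi⟩ := exists_zmodPow x hx.dvd c.toAdd
    obtain ⟨j, -, hj⟩ := exists_zmodPow y hy.dvd d.toAdd
    rw [ofAdd_toAdd] at hi hj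
    rw [show px c = _ from hi, show py d = _ from hj]
    exact ((show Commute x y from hxy).zpow_zpow i j).eq
  have hswap : ∀ c, z * px c = py c * z ∧ z * py c = px c * z := fun c => by
    obtain ⟨i, hic, hi⟩ := exists_zmodPow x hx.dvd c.toAdd
    rw [ofAdd_toAdd] at hi
    have hj : py c = y ^ i := by
      rw [show c = Multiplicative.ofAdd (i : ZMod (2 ^ n)) by rw [hic, ofAdd_toAdd]]
      exact zmodPow_apply y hy.dvd i
    rw [show px c = _ from hi, hj]
    constructor
    · rw [← hzxy, conj_zpow]; group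
    · rw [← hzy, conj_zpow]; group
  let f : Wr n → S := fun p =>
    px (Multiplicative.ofAdd p.a) * py (Multiplicative.ofAdd p.b) * (if p.e then z else 1)
  let φ : Wr n →* S := MonoidHom.mk' f fun p q => by
    rcases p with ⟨pa, pb, _ | _⟩
    · simp only [f, Wr.mul_a, Wr.mul_b, Wr.mul_e, Bool.false_eq_true, if_false, mul_one,
        Bool.false_xor, ofAdd_add, map_mul]
      rw [mul_assoc (px _) (px _), ← mul_assoc (px (Multiplicative.ofAdd q.a)), hcomm]
      group
    · simp only [f, Wr.mul_a, Wr.mul_b, Wr.mul_e, if_true, ofAdd_add, map_mul]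
      have hzc : ∀ (c d : Multiplicative (ZMod (2 ^ n))), z * (px c * py d) = px d * py c * z :=
        fun c d => by rw [← mul_assoc, (hswap c).1, mul_assoc, (hswap d).2, ← mul_assoc, hcomm d c]
      have he : z * (if q.e then z else 1) = if (xor true q.e) = true then z else 1 := by
        cases q.e <;> simp [hz2]
      rw [← he]
      calc px (Multiplicative.ofAdd pa) * px (Multiplicative.ofAdd q.b) *
            (py (Multiplicative.ofAdd pb) * py (Multiplicative.ofAdd q.a)) *
            (z * if q.e = true then z else 1)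
          = px (Multiplicative.ofAdd pa) * (px (Multiplicative.ofAdd q.b) *
            py (Multiplicative.ofAdd pb)) * py (Multiplicative.ofAdd q.a) * z *
            (if q.e = true then z else 1) := by group
        _ = px (Multiplicative.ofAdd pa) * (py (Multiplicative.ofAdd pb) *
            px (Multiplicative.ofAdd q.b)) * py (Multiplicative.ofAdd q.a) * z *
            (if q.e = true then z else 1) := by rw [hcomm]
        _ = px (Multiplicative.ofAdd pa) * py (Multiplicative.ofAdd pb) *
            (px (Multiplicative.ofAdd q.b) * py (Multiplicative.ofAdd q.a) * z) *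
            (if q.e = true then z else 1) := by group
        _ = _ := by rw [← hzc]; group
  have hinj : Function.Injective φ := by
    rw [injective_iff_map_eq_one]
    rintro ⟨a, b, e⟩ h
    obtain ⟨i, hia, hi⟩ := exists_zmodPow x hx.dvd a
    obtain ⟨j, hjb, hj⟩ := exists_zmodPow y hy.dvd b
    have h' : x ^ i * y ^ j * (if e then z else 1) = 1 := by
      rw [← hi, ← hj]; exact h
    cases e
    · simp only [Bool.false_eq_true, if_false, mul_one] at h'
      have h1 : x ^ i ∈ Subgroup.zpowers x ⊓ Subgroup.zpowers y :=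
        ⟨⟨i, rfl⟩, ⟨-j, by show y ^ (-j) = _; rw [zpow_neg, eq_comm, eq_inv_iff_mul_eq_one]; exact h'⟩⟩
      rw [hd, Subgroup.mem_bot] at h1
      rw [h1, one_mul] at h'
      rw [← orderOf_dvd_iff_zpow_eq_one, hx] at h1
      rw [← orderOf_dvd_iff_zpow_eq_one, hy] at h'
      ext
      · rw [← hia]; exact (ZMod.intCast_zmod_eq_zero_iff_dvd i _).mpr h1
      · rw [← hjb]; exact (ZMod.intCast_zmod_eq_zero_iff_dvd j _).mpr h'
      · rfl
    · exfalso
      simp only [if_true] at h'
      have hzval : z = y ^ (-j) * x ^ (-i) := by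
        rw [eq_inv_of_mul_eq_one_right h', mul_inv_rev, zpow_neg, zpow_neg]
      have hc : Commute z x := by
        rw [hzval]
        exact ((show Commute x y from hxy).symm.zpow_left _).mul_left
          ((Commute.refl x).zpow_left _)
      have hyx : y = x := by rw [← hzxy, hc.eq, mul_inv_cancel_right]
      rw [hyx, inf_idem, Subgroup.zpowers_eq_bot] at hd
      rw [hd, orderOf_one] at hx
      exact absurd hx.symm (Nat.one_lt_two_pow (by omega)).ne'
  exact ⟨n, hn, hcard, ⟨MulEquiv.ofBijective φ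
    (hinj.bijective_of_nat_card_le (by rw [hcard, Wr.card_eq]))⟩⟩

end Iso

end Cfsg.Lib.Wreathed
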